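import Mathlib

/-!
# Generalized quaternion Sylow 2-subgroups: basic data.  Owner: helper20.

`QData S a x m` records a presentation of a generalized quaternion subgroup `S` with
cyclic subgroup `⟨a⟩` of index two (`m` a power of two, at least 4).
-/

set_option autoImplicit false
set_option linter.unusedSectionVars false
set_option linter.unusedVariables false

namespace Cfsg.Agent.Lib.BS

open Subgroup

variable {G : Type*} [Group G]

/-- Presentation data of a generalized quaternion subgroup of order `4 * m`, `m = 2 ^ (k + 2)`. -/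
structure QData (S : Subgroup G) (a x : G) (m : ℕ) : Prop where
  ha : orderOf a = 2 * m
  hx2 : x ^ 2 = a ^ m
  hxa : x * a * x⁻¹ = a⁻¹
  haS : a ∈ S
  hxS : x ∈ S
  hS : ∀ s ∈ S, s ∈ zpowers a ∨ ∃ b ∈ zpowers a, s = x * b
  hcard : Nat.card S = 4 * m
  hm : ∃ k : ℕ, m = 2 ^ (k + 2)

/-- Transport of the quaternion group. -/
theorem QData.of_equiv (S : Subgroup G) {n : ℕ} (e : S ≃* QuaternionGroup (2 ^ (n + 2))) :
    QData S ((e.symm (QuaternionGroup.a 1) : S) : G) ((e.symm (QuaternionGroup.xa 0) : S) : G) (2 ^ (n + 2)) := by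
  haveI : NeZero (2 ^ (n + 2)) := ⟨by positivity⟩
  refine ⟨?_, ?_, ?_, ?_, ?_, ?_, ?_, ⟨n, rfl⟩⟩
  · rw [Subgroup.orderOf_coe, MulEquiv.orderOf_eq, QuaternionGroup.orderOf_a_one]
  · have h : (QuaternionGroup.xa 0 : QuaternionGroup (2 ^ (n + 2))) ^ 2 = (QuaternionGroup.a 1) ^ (2 ^ (n + 2)) := by
      rw [QuaternionGroup.xa_sq, QuaternionGroup.a_one_pow]
    have h2 : (e.symm (QuaternionGroup.xa 0)) ^ 2 = (e.symm (QuaternionGroup.a 1)) ^ (2 ^ (n + 2)) := by
      rw [← map_pow, ← map_pow, h]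
    exact_mod_cast congrArg Subtype.val h2
  · have h : (QuaternionGroup.xa 0 : QuaternionGroup (2 ^ (n + 2))) * QuaternionGroup.a 1 * (QuaternionGroup.xa 0)⁻¹ = (QuaternionGroup.a 1)⁻¹ := by
      rw [mul_inv_eq_iff_eq_mul, QuaternionGroup.xa_mul_a, show ((QuaternionGroup.a 1 : QuaternionGroup (2 ^ (n + 2)))⁻¹) = QuaternionGroup.a (-1) from rfl, QuaternionGroup.a_mul_xa]
      simp
    have h2 : (e.symm (QuaternionGroup.xa 0)) * (e.symm (QuaternionGroup.a 1)) * (e.symm (QuaternionGroup.xa 0))⁻¹ = (e.symm (QuaternionGroup.a 1))⁻¹ := by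
      rw [← map_inv, ← map_inv, ← map_mul, ← map_mul, h]
    exact_mod_cast congrArg Subtype.val h2
  · exact (e.symm _).2
  · exact (e.symm _).2
  · intro s hs
    have hq : e.symm (e ⟨s, hs⟩) = ⟨s, hs⟩ := e.symm_apply_apply _
    have hs' : s = ((e.symm (e ⟨s, hs⟩) : S) : G) := by rw [hq]
    have hpow : ∀ i : ZMod (2 * 2 ^ (n + 2)), ((e.symm (QuaternionGroup.a i) : S) : G) ∈
        zpowers ((e.symm (QuaternionGroup.a 1) : S) : G) := by
      intro i
      have h3 : (QuaternionGroup.a i : QuaternionGroup (2 ^ (n + 2))) = (QuaternionGroup.a 1) ^ i.val := by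
        rw [QuaternionGroup.a_one_pow]
        simp
      rw [h3, map_pow]
      simp only [SubmonoidClass.coe_pow]
      exact Subgroup.pow_mem _ (mem_zpowers _) _
    rcases hc : e ⟨s, hs⟩ with i | i
    · left
      rw [hs', hc]
      exact hpow i
    · right
      refine ⟨_, hpow i, ?_⟩
      rw [hs', hc]
      have h3 : (QuaternionGroup.xa i : QuaternionGroup (2 ^ (n + 2))) = QuaternionGroup.xa 0 * QuaternionGroup.a i := by
        simp [QuaternionGroup.xa_mul_a]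
      rw [h3, map_mul]
      rfl
  · rw [Nat.card_congr e.toEquiv, Nat.card_eq_fintype_card, QuaternionGroup.card]

variable {S : Subgroup G} {a x : G} {m : ℕ}

namespace QData

theorem m_pos (h : QData S a x m) : 0 < m := by
  obtain ⟨k, rfl⟩ := h.hm
  positivity

theorem four_dvd (h : QData S a x m) : 4 ∣ m := by
  obtain ⟨k, rfl⟩ := h.hm
  exact ⟨2 ^ k, by ring⟩

/-- `x` inverts powers of `a`. -/
theorem conj_zpow (h : QData S a x m) (i : ℤ) : x * a ^ i * x⁻¹ = a ^ (-i) := by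
  have h1 : (MulAut.conj x) (a ^ i) = ((MulAut.conj x) a) ^ i := map_zpow _ _ _
  simp only [MulAut.conj_apply] at h1
  rw [h1, h.hxa, inv_zpow, zpow_neg]

theorem conj_mem_zpowers (h : QData S a x m) {b : G} (hb : b ∈ zpowers a) : x * b * x⁻¹ = b⁻¹ := by
  obtain ⟨i, rfl⟩ := mem_zpowers_iff.mp hb
  rw [h.conj_zpow, zpow_neg]

theorem comm_of_mem {b c : G} (hb : b ∈ zpowers a) (hc : c ∈ zpowers a) : b * c = c * b := by
  obtain ⟨i, rfl⟩ := mem_zpowers_iff.mp hb
  obtain ⟨j, rfl⟩ := mem_zpowers_iff.mp hc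
  exact (Commute.refl a).zpow_zpow i j

theorem a_sq_ne_inv (h : QData S a x m) : a ^ 2 ≠ (a ^ 2)⁻¹ := by
  intro h1
  have h2 : a ^ 4 = 1 := by
    have h3 : a ^ 2 * a ^ 2 = 1 := by
      calc a ^ 2 * a ^ 2 = a ^ 2 * (a ^ 2)⁻¹ := by rw [← h1]
        _ = 1 := by group
    calc a ^ 4 = a ^ 2 * a ^ 2 := by group
      _ = 1 := h3
  have h3 := orderOf_dvd_of_pow_eq_one h2
  rw [h.ha] at h3
  obtain ⟨k, rfl⟩ := h.hm
  have : 2 * 2 ^ (k + 2) ≤ 4 := Nat.le_of_dvd (by norm_num) h3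
  have h4 : 0 < 2 ^ k := by positivity
  rw [pow_add] at this
  omega

/-- Conjugation of `a²` by an element of `S` gives `a²` or its inverse. -/
theorem conj_sq_of_mem (h : QData S a x m) {s : G} (hs : s ∈ S) :
    (s ∈ zpowers a ∧ s * a ^ 2 * s⁻¹ = a ^ 2) ∨ (s ∉ zpowers a ∧ s * a ^ 2 * s⁻¹ = (a ^ 2)⁻¹) := by
  have hmem : a ^ 2 ∈ zpowers a := Subgroup.pow_mem _ (mem_zpowers _) _
  rcases h.hS s hs with h1 | ⟨b, hb, rfl⟩
  · left
    refine ⟨h1, ?_⟩
    rw [comm_of_mem h1 hmem]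
    group
  · right
    have h2 : (x * b) * a ^ 2 * (x * b)⁻¹ = (a ^ 2)⁻¹ := by
      have h3 : b * a ^ 2 * b⁻¹ = a ^ 2 := by
        rw [comm_of_mem hb hmem]
        group
      calc (x * b) * a ^ 2 * (x * b)⁻¹ = x * (b * a ^ 2 * b⁻¹) * x⁻¹ := by group
        _ = (a ^ 2)⁻¹ := by rw [h3, h.conj_mem_zpowers hmem]
    refine ⟨?_, h2⟩
    intro h3
    have h4 := comm_of_mem h3 hmem
    have h5 : x * b * a ^ 2 * (x * b)⁻¹ = a ^ 2 := by
      rw [h4]
      group
    exact h.a_sq_ne_inv (h5.symm.trans h2)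

end QData

end Cfsg.Agent.Lib.BS
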